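import Groth.Agent.LocFree.Basic
import Groth.Agent.QCohLib.Pullback
import Groth.Agent.QCohLib.Closure
import Groth.Agent.QCohLib.Affine
import Mathlib.RingTheory.Localization.Free
import Mathlib.RingTheory.Spectrum.Prime.FreeLocus

/-!
Tilde of finite projective modules and retracts of finite locally free modules are finite locally free.
-/

set_option autoImplicit false

universe u

open CategoryTheory CategoryTheory.Limits AlgebraicGeometry TensorProduct

namespace Groth.Agent.LocFree

variable {X : Scheme.{u}}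

/-- Local freeness from open immersions. -/
lemma isFinLocFree_of_openImmersion {M : X.Modules} (h : ∀ x : X, ∃ (W : Scheme.{u}) (j : W ⟶ X) (_ : IsOpenImmersion j)
    (w : W), j w = x ∧ ∃ n : ℕ, Nonempty (M.restrict j ≅ FlatMod.freeMod W n)) : FlatMod.IsFinLocFree M := fun x => by
  obtain ⟨W, j, hj, w, hw, n, ⟨e⟩⟩ := h x
  refine ⟨j.opensRange, n, ⟨w, hw⟩, ⟨?_⟩⟩
  exact ((Scheme.Modules.restrictFunctorCongr j.isoOpensRange_inv_comp).app M).symm ≪≫
    (Scheme.Modules.restrictFunctorComp j.isoOpensRange.inv j).app M ≪≫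
      (Scheme.Modules.restrictFunctor j.isoOpensRange.inv).mapIso e ≪≫ restrictFreeIso _ n

/-- Finite free tilde. -/
noncomputable def tildeFreeFinIso (S : CommRingCat.{u}) (n : ℕ) :
    (tilde.functor S).obj (ModuleCat.of S (ULift.{u} (Fin n) →₀ S)) ≅ FlatMod.freeMod (Spec S) n :=
  tildeFinsupp (ULift.{u} (Fin n)) ≪≫
    Sigma.whiskerEquiv (f := fun _ : ULift.{u} (Fin n) => Coh.structureModule (Spec S))
      (g := fun _ : Fin n => Coh.structureModule (Spec S)) Equiv.ulift (fun _ => Iso.refl _)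

lemma exists_extendScalars_free {R S : CommRingCat.{u}} [Nontrivial S] (φ : R ⟶ S) (P : ModuleCat.{u} R)
    [Module.Finite R P] (a : Algebra R S) (h : a.algebraMap = φ.hom) (H : letI := a; Module.Free S (S ⊗[R] P)) :
    ∃ n : ℕ, Nonempty ((ModuleCat.extendScalars φ.hom).obj P ≅ ModuleCat.of S (ULift.{u} (Fin n) →₀ S)) := by
  have : a = φ.hom.toAlgebra := Algebra.algebra_ext _ _ fun r => congrArg (fun g : R →+* S => g r) h
  subst this
  let : Algebra R S := φ.hom.toAlgebra
  have : Module.Free S (S ⊗[R] P) := H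
  let b := Module.Free.chooseBasis S (S ⊗[R] P)
  have : Finite (Module.Free.ChooseBasisIndex S (S ⊗[R] P)) := Module.Finite.finite_basis b
  let b' := b.reindex ((Finite.equivFin _).trans Equiv.ulift.{u}.symm)
  exact ⟨_, ⟨LinearEquiv.toModuleIso b'.repr⟩⟩

lemma isFinLocFree_tilde {R : CommRingCat.{u}} (P : ModuleCat.{u} R) [Module.Finite R P] [Module.Projective R P] :
    FlatMod.IsFinLocFree (tilde P) := by
  refine isFinLocFree_of_openImmersion fun x => ?_
  have := Module.finitePresentation_of_projective R P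
  have : Module.Free (Localization.AtPrime x.asIdeal) (LocalizedModule x.asIdeal.primeCompl P) :=
    ((Module.freeLocus_eq_univ_iff (R := R) (M := P)).mpr inferInstance).ge (Set.mem_univ x)
  obtain ⟨g, hgx, hgfree, -⟩ := Module.FinitePresentation.exists_free_localizedModule_powers
    x.asIdeal.primeCompl (LocalizedModule.mkLinearMap x.asIdeal.primeCompl P) (Localization.AtPrime x.asIdeal)
  let S := CommRingCat.of (Localization.Away g)
  let φ : R ⟶ S := CommRingCat.ofHom (algebraMap R (Localization.Away g))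
  have hx : x ∈ Set.range (Spec.map φ).base := by
    rw [← Scheme.Hom.coe_opensRange, Scheme.Hom.opensRange_localizationAway]
    exact hgx
  obtain ⟨w, hw⟩ := hx
  refine ⟨Spec S, Spec.map φ, inferInstance, w, hw, ?_⟩
  have hf : Module.Free (Localization.Away g) (Localization.Away g ⊗[R] P) :=
    Module.Free.of_equiv (LocalizedModule.isBaseChange (Submonoid.powers g) P).equiv.symm
  have : Nontrivial S := PrimeSpectrum.nontrivial w
  obtain ⟨n, ⟨e⟩⟩ := exists_extendScalars_free φ P
    (inferInstanceAs (Algebra R (Localization.Away g))) rfl hf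
  exact ⟨n, ⟨(Scheme.Modules.restrictFunctorIsoPullback (Spec.map φ)).app (tilde P) ≪≫
    ((QCohLib.pullbackTildeIso φ).app P).symm ≪≫ (tilde.functor S).mapIso e ≪≫ tildeFreeFinIso S n⟩⟩

lemma isFinLocFree_retract_Spec {R : CommRingCat.{u}} {M : (Spec R).Modules} {n : ℕ}
    (i : M ⟶ FlatMod.freeMod (Spec R) n) (r : FlatMod.freeMod (Spec R) n ⟶ M) (h : i ≫ r = 𝟙 M) :
    FlatMod.IsFinLocFree M := by
  let N := (tilde.functor R).obj (ModuleCat.of R (ULift.{u} (Fin n) →₀ R))
  let i' : M ⟶ N := i ≫ (tildeFreeFinIso R n).inv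
  let r' : N ⟶ M := (tildeFreeFinIso R n).hom ≫ r
  have h' : i' ≫ r' = 𝟙 M := by simp [i', r', h]
  have : N.IsQuasicoherent := QCohLib.isQuasicoherent_tilde_obj _
  let p : N ⟶ N := 𝟙 N - r' ≫ i'
  have hzero : i' ≫ p = 0 := by simp [p, reassoc_of% h']
  have hk : IsLimit (KernelFork.ofι i' hzero) :=
    KernelFork.IsLimit.ofι _ _ (fun g _ => g ≫ r') (fun g hg => by
      have : g = g ≫ r' ≫ i' := by simpa [p, sub_eq_zero] using hg
      rw [Category.assoc]; exact this.symm)
      (fun g hg m hm => by rw [← hm, Category.assoc, h', Category.comp_id])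
  have : M.IsQuasicoherent :=
    have := QCohLib.isQuasicoherent_kernel_Spec p
    QCohLib.isQuasicoherent_of_iso (show kernel p ≅ M from (kernelIsKernel p).conePointUniqueUpToIso hk)
  let c := QCohLib.counitIso M
  let a := tilde.fullyFaithfulFunctor.preimage (c.hom ≫ i')
  let b := tilde.fullyFaithfulFunctor.preimage (r' ≫ c.inv)
  have hab : a ≫ b = 𝟙 _ := by
    apply (tilde.functor R).map_injective
    rw [Functor.map_comp, Functor.FullyFaithful.map_preimage, Functor.FullyFaithful.map_preimage, Category.assoc,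
      reassoc_of% h', Iso.hom_inv_id]
    exact ((tilde.functor R).map_id _).symm
  have hl : b.hom ∘ₗ a.hom = LinearMap.id := congrArg ModuleCat.Hom.hom hab
  have : Module.Projective R (QCohLib.ΓR M) := Module.Projective.of_split a.hom b.hom hl
  have : Module.Finite R (QCohLib.ΓR M) :=
    Module.Finite.of_surjective b.hom fun y => ⟨a.hom y, congrArg (fun l => l y) hl⟩
  exact IsFinLocFree.of_iso c (isFinLocFree_tilde (QCohLib.ΓR M))

/-- A retract of a finite locally free module is finite locally free. -/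
theorem isFinLocFree_retract {M E : X.Modules} (i : M ⟶ E) (r : E ⟶ M) (h : i ≫ r = 𝟙 M)
    (hE : FlatMod.IsFinLocFree E) : FlatMod.IsFinLocFree M := by
  refine isFinLocFree_of_openImmersion fun x => ?_
  obtain ⟨U, n, hxU, ⟨e⟩⟩ := hE x
  obtain ⟨V, hV, hxV, hVU⟩ := TopologicalSpace.Opens.isBasis_iff_nbhd.mp X.isBasis_affineOpens hxU
  let k : Spec Γ(X, V) ⟶ X := hV.fromSpec
  obtain ⟨e₁⟩ := free_of_le hVU e
  let d : E.restrict k ≅ FlatMod.freeMod (Spec Γ(X, V)) n :=
    (Scheme.Modules.restrictFunctorCongr (show k = hV.isoSpec.inv ≫ Scheme.Opens.ι V from rfl)).app E ≪≫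
      (Scheme.Modules.restrictFunctorComp hV.isoSpec.inv (Scheme.Opens.ι V)).app E ≪≫
        (Scheme.Modules.restrictFunctor hV.isoSpec.inv).mapIso e₁ ≪≫ restrictFreeIso _ n
  have hM : FlatMod.IsFinLocFree (M.restrict k) :=
    isFinLocFree_retract_Spec ((Scheme.Modules.restrictFunctor k).map i ≫ d.hom)
      (d.inv ≫ (Scheme.Modules.restrictFunctor k).map r)
      (by simp [← Functor.map_comp, h])
  obtain ⟨w, hw⟩ : x ∈ Set.range k.base := by rw [hV.range_fromSpec]; exact hxV
  obtain ⟨W, m, hwW, ⟨eW⟩⟩ := hM w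
  exact ⟨W, W.ι ≫ k, inferInstance, ⟨w, hwW⟩, hw, m,
    ⟨(Scheme.Modules.restrictFunctorComp W.ι k).app M ≪≫ eW⟩⟩

end Groth.Agent.LocFree
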