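import Groth.Prelude.Def_FlatMod2
import Mathlib.AlgebraicGeometry.Modules.Tilde
import Mathlib.Algebra.Homology.HomotopyCategory.MappingCone

/-!
Finite locally free modules on schemes: restriction, sums, shrinking.
-/

set_option autoImplicit false
set_option linter.style.haveILetI false
universe u

open CategoryTheory CategoryTheory.Limits AlgebraicGeometry

set_option backward.isDefEq.respectTransparency false

namespace Groth.Agent.LocFree

variable {X Y : Scheme.{u}}

/-- Restriction of a free module is free. -/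
noncomputable def restrictFreeIso (f : Y ⟶ X) [IsOpenImmersion f] (n : ℕ) :
    (FlatMod.freeMod X n).restrict f ≅ FlatMod.freeMod Y n :=
  haveI := (Scheme.Modules.restrictAdjunction f).leftAdjoint_preservesColimits
  PreservesCoproduct.iso (Scheme.Modules.restrictFunctor f) _ ≪≫
    Sigma.mapIso fun _ => Scheme.Modules.restrictUnitIso f

/-- `O^n ⊕ O^m = O^(n + m)`. -/
noncomputable def freeSumIso (X : Scheme.{u}) [HasBinaryBiproducts X.Modules] (n m : ℕ) :
    FlatMod.freeMod X n ⊞ FlatMod.freeMod X m ≅ FlatMod.freeMod X (n + m) where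
  hom := biprod.desc (Sigma.desc fun i => Sigma.ι (fun _ : Fin (n + m) => Coh.structureModule X) (i.castAdd m))
    (Sigma.desc fun i => Sigma.ι (fun _ : Fin (n + m) => Coh.structureModule X) (i.natAdd n))
  inv := Sigma.desc (Fin.addCases (motive := fun _ => Coh.structureModule X ⟶
      FlatMod.freeMod X n ⊞ FlatMod.freeMod X m)
    (fun i => Sigma.ι (fun _ : Fin n => Coh.structureModule X) i ≫ biprod.inl)
    (fun i => Sigma.ι (fun _ : Fin m => Coh.structureModule X) i ≫ biprod.inr))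
  hom_inv_id := by
    refine biprod.hom_ext' _ _ (Sigma.hom_ext _ _ fun i => ?_) (Sigma.hom_ext _ _ fun i => ?_) <;> simp
  inv_hom_id := by
    refine Sigma.hom_ext _ _ fun i => ?_
    induction i using Fin.addCases <;> simp

/-- Local freeness may be checked on a smaller open. -/
lemma free_of_le {M : X.Modules} {U V : X.Opens} (h : V ≤ U) {n : ℕ}
    (e : M.restrict U.ι ≅ FlatMod.freeMod (↑U) n) :
    Nonempty (M.restrict V.ι ≅ FlatMod.freeMod (↑V) n) :=
  ⟨(Scheme.Modules.restrictFunctorCongr (X.homOfLE_ι h)).symm.app M ≪≫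
    (Scheme.Modules.restrictFunctorComp (X.homOfLE h) U.ι).app M ≪≫
    (Scheme.Modules.restrictFunctor (X.homOfLE h)).mapIso e ≪≫ restrictFreeIso _ n⟩

lemma IsFinLocFree.of_iso {M N : X.Modules} (e : M ≅ N) (h : FlatMod.IsFinLocFree M) :
    FlatMod.IsFinLocFree N := fun x => by
  obtain ⟨U, n, hx, ⟨i⟩⟩ := h x
  exact ⟨U, n, hx, ⟨(Scheme.Modules.restrictFunctor U.ι).mapIso e.symm ≪≫ i⟩⟩

lemma IsFinLocFree.biprod [HasBinaryBiproducts X.Modules] {M N : X.Modules}
    (hM : FlatMod.IsFinLocFree M) (hN : FlatMod.IsFinLocFree N) :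
    FlatMod.IsFinLocFree (M ⊞ N) := fun x => by
  obtain ⟨U, n, hxU, ⟨i⟩⟩ := hM x
  obtain ⟨V, m, hxV, ⟨j⟩⟩ := hN x
  obtain ⟨i'⟩ := free_of_le (inf_le_left : U ⊓ V ≤ U) i
  obtain ⟨j'⟩ := free_of_le (inf_le_right : U ⊓ V ≤ V) j
  haveI := (Scheme.Modules.restrictAdjunction (U ⊓ V).ι).leftAdjoint_preservesColimits
  haveI : (Scheme.Modules.restrictFunctor (U ⊓ V).ι).PreservesZeroMorphisms := inferInstance
  haveI := preservesBinaryBiproduct_of_preservesBinaryCoproduct
    (Scheme.Modules.restrictFunctor (U ⊓ V).ι) (X := M) (Y := N)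
  exact ⟨U ⊓ V, n + m, ⟨hxU, hxV⟩,
    ⟨(Scheme.Modules.restrictFunctor (U ⊓ V).ι).mapBiprod M N ≪≫ biprod.mapIso i' j' ≪≫
      freeSumIso _ n m⟩⟩

end Groth.Agent.LocFree
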